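import Cfsg.Agent.CSixSevenEight.Cert
import Cfsg.Agent.CSixSevenEight.Data

/-!
# The generators and the words in the new basis
-/

set_option autoImplicit false
set_option maxRecDepth 8000

namespace Cfsg.Agent.CSixSevenEight

open Cfsg Cfsg.Geo Matrix
open Cfsg.Agent.CSixSeven (InX Ym Xm Gm Sm Zm Fm)

theorem qb_inv : same (mul7 (dec Data.qiCode) (dec Data.qCode)) 1 = true := by decide +kernel

theorem qb_inv' : same (mul7 (dec Data.qCode) (dec Data.qiCode)) 1 = true := by decide +kernel

/-- The basis adapted to the parity involution. -/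
def qb : Basis where
  Q := dec Data.qCode
  Qi := dec Data.qiCode
  inv := (mul7_eq _ _) ▸ eq_of_same qb_inv
  inv' := (mul7_eq _ _) ▸ eq_of_same qb_inv'

/-- The change of basis of a code. -/
def unQ (n : ℕ) : M7K := mul7 (mul7 (dec Data.qCode) (dec n)) (dec Data.qiCode)

theorem unQ_eq (n : ℕ) : unQ n = qb.Q * dec n * qb.Qi := by simp only [unQ, mul7_eq, qb]

theorem seeds_val : (same (unQ (Data.seeds.getD 0 0)) 1 && same (unQ (Data.seeds.getD 1 0)) (Gm wK) &&
    same (unQ (Data.seeds.getD 2 0)) (Fm wK) && same (unQ (Data.seeds.getD 3 0)) Zm &&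
    same (unQ (Data.seeds.getD 4 0)) (Ym wK) && same (unQ (Data.seeds.getD 5 0)) Xm &&
    same (unQ (Data.seeds.getD 6 0)) Sm) = true := by decide +kernel

variable {X : Subgroup (GL (Fin 7) K)}

theorem seeds_mem (hG : Gens X) : ∀ n ∈ Data.seeds, InQ qb X (dec n) := by
  have h := seeds_val
  simp only [Bool.and_eq_true] at h
  obtain ⟨⟨⟨⟨⟨⟨h0, h1⟩, h2⟩, h3⟩, h4⟩, h5⟩, h6⟩ := h
  intro n hn
  obtain ⟨i, hi, rfl⟩ := List.getElem_of_mem hn
  have hgd : Data.seeds[i] = Data.seeds.getD i 0 := (List.getD_eq_getElem _ _ hi).symm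
  unfold InQ
  rw [hgd, ← unQ_eq]
  have hi7 : i < 7 := hi
  interval_cases i
  · rw [eq_of_same h0]; exact ⟨1, one_mem _, Units.val_one⟩
  · rw [eq_of_same h1]; exact hG.g
  · rw [eq_of_same h2]; exact hG.f
  · rw [eq_of_same h3]; exact hG.z
  · rw [eq_of_same h4]; exact hG.y
  · rw [eq_of_same h5]; exact hG.x
  · rw [eq_of_same h6]; exact hG.s

theorem base_ok : okFrom Data.seeds Data.baseSteps = true := by decide +kernel

theorem words_ok : okFrom Data.baseEnv Data.wordSteps = true := by decide +kernel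

theorem base_mem (hG : Gens X) : ∀ n ∈ Data.baseEnv, InQ qb X (dec n) :=
  closure_mem _ _ (seeds_mem hG) base_ok

theorem words_mem (hG : Gens X) : ∀ n ∈ Data.wordEnv, InQ qb X (dec n) :=
  closure_mem _ _ (base_mem hG) words_ok

/-- A pair of mutually inverse words. -/
def pairOk (p : ℕ × ℕ) : Bool :=
  decide (p.1 ∈ Data.wordEnv) && decide (p.2 ∈ Data.wordEnv) && same (mul7 (dec p.1) (dec p.2)) 1

theorem pair_spec (hG : Gens X) {p : ℕ × ℕ} (hp : pairOk p = true) :
    InQ qb X (dec p.1) ∧ InQ qb X (dec p.2) ∧ dec p.1 * dec p.2 = 1 ∧ dec p.2 * dec p.1 = 1 := by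
  simp only [pairOk, Bool.and_eq_true, decide_eq_true_eq] at hp
  obtain ⟨⟨h1, h2⟩, h3⟩ := hp
  have e : dec p.1 * dec p.2 = 1 := mul7_eq _ _ ▸ eq_of_same h3
  exact ⟨words_mem hG _ h1, words_mem hG _ h2, e, mul_eq_one_comm.1 e⟩

/-- The parity involution minus one: the last three coordinates onto the first three. -/
def Nz : M7K := Matrix.of fun i j => if j.val = i.val + 4 then 1 else 0

theorem one_add_Nz : same (dec (Data.seeds.getD 3 0)) (1 + Nz) = true := by decide +kernel

/-- Support of the unipotent radical of the centraliser of the parity involution. -/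
def InRad (N : M7K) : Prop :=
  ∀ i j : Fin 7, N i j ≠ 0 → (i.val < 3 ∧ 3 ≤ j.val) ∨ (i.val = 3 ∧ 4 ≤ j.val)

/-- The kernel of the action on the first three coordinates is generated by the parity involution. -/
def SmallKernel (X : Subgroup (GL (Fin 7) K)) : Prop :=
  ∀ N : M7K, InRad N → InQ qb X (1 + N) → N = 0 ∨ N = Nz

end Cfsg.Agent.CSixSevenEight
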