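import Cfsg.Agent.CSixSevenEight.Defs

/-!
# Certificates: closures of seven by seven matrices over eight elements

A matrix is a natural number, three binary digits for each entry. A certificate lists matrices, each
a product of at most three earlier ones. Everything is read in a basis in which the parity involution
is `1` plus the shift of the last three coordinates onto the first three.
-/

set_option autoImplicit false

namespace Cfsg.Agent.CSixSevenEight

open Cfsg Cfsg.Geo Matrix
open Cfsg.Agent.CSixSeven (InX)

abbrev M7K := Matrix (Fin 7) (Fin 7) K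

/-- The matrix with a given code. -/
def dec (n : ℕ) : M7K :=
  Matrix.of fun i j => Cfsg.Agent.SpecD4.F8.mk (n >>> (3 * (7 * i.val + j.val)))

/-- Unfolded product. -/
def mul7 (A B : M7K) : M7K :=
  Matrix.of fun i j => A i 0 * B 0 j + A i 1 * B 1 j + A i 2 * B 2 j + A i 3 * B 3 j +
    A i 4 * B 4 j + A i 5 * B 5 j + A i 6 * B 6 j

theorem mul7_eq (A B : M7K) : mul7 A B = A * B := by
  ext i j
  simp only [mul7, Matrix.of_apply, Matrix.mul_apply, Fin.sum_univ_seven]

/-- The product of earlier entries. -/
def prodOf (env : List ℕ) : List ℕ → M7K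
  | [] => 1
  | [a] => dec (env.getD a 0)
  | a :: b :: l => mul7 (dec (env.getD a 0)) (prodOf env (b :: l))

/-- Two matrices agree in every entry. -/
def same (A B : M7K) : Bool :=
  (List.finRange 7).all fun i => (List.finRange 7).all fun j => decide (A i j = B i j)

theorem eq_of_same {A B : M7K} (h : same A B = true) : A = B := by
  ext i j
  simpa [same] using (List.all_eq_true.1 ((List.all_eq_true.1 h) i (List.mem_finRange i)))
    j (List.mem_finRange j)

/-- Every listed entry is the product of earlier ones. -/
def okFrom : List ℕ → List (ℕ × List ℕ) → Bool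
  | _, [] => true
  | env, (n, r) :: rest =>
      same (prodOf env r) (dec n) && r.all (fun a => decide (a < env.length)) &&
        okFrom (env ++ [n]) rest

/-- The matrices of `X`, read in the new basis. -/
structure Basis where
  Q : M7K
  Qi : M7K
  inv : Qi * Q = 1
  inv' : Q * Qi = 1

variable {X : Subgroup (GL (Fin 7) K)} {b : Basis}

/-- `M` is the matrix, in the basis `b`, of an element of `X`. -/
def InQ (b : Basis) (X : Subgroup (GL (Fin 7) K)) (M : M7K) : Prop :=
  InX X (b.Q * M * b.Qi)

theorem InQ.one : InQ b X 1 :=
  ⟨1, one_mem _, by rw [Units.val_one, Matrix.mul_one, b.inv']⟩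

theorem InQ.mul {M N : M7K} (hM : InQ b X M) (hN : InQ b X N) : InQ b X (M * N) := by
  obtain ⟨g, hg, eg⟩ := hM
  obtain ⟨h, hh, eh⟩ := hN
  refine ⟨g * h, mul_mem hg hh, ?_⟩
  rw [Units.val_mul, eg, eh]
  calc b.Q * M * b.Qi * (b.Q * N * b.Qi) = b.Q * M * (b.Qi * b.Q) * N * b.Qi := by
        simp only [Matrix.mul_assoc]
    _ = b.Q * (M * N) * b.Qi := by rw [b.inv, Matrix.mul_one]; simp only [Matrix.mul_assoc]

theorem prodOf_mem {env : List ℕ} (he : ∀ n ∈ env, InQ b X (dec n)) :
    ∀ r : List ℕ, (∀ a ∈ r, a < env.length) → InQ b X (prodOf env r)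
  | [], _ => InQ.one
  | [a], h => by
      have ha := h a (by simp)
      rw [prodOf, List.getD_eq_getElem _ _ ha]
      exact he _ (List.getElem_mem ha)
  | a :: c :: l, h => by
      have ha := h a (by simp)
      rw [prodOf, mul7_eq, List.getD_eq_getElem _ _ ha]
      exact (he _ (List.getElem_mem ha)).mul
        (prodOf_mem he (c :: l) fun x hx => h x (List.mem_cons_of_mem a hx))

/-- The entries of a checked certificate lie in `X`. -/
theorem closure_mem : ∀ (steps : List (ℕ × List ℕ)) (env : List ℕ),
    (∀ n ∈ env, InQ b X (dec n)) → okFrom env steps = true →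
      ∀ n ∈ env ++ steps.map Prod.fst, InQ b X (dec n)
  | [], env, he, _ => by simpa using he
  | (n, r) :: rest, env, he, hok => by
      simp only [okFrom, Bool.and_eq_true, List.all_eq_true, decide_eq_true_eq] at hok
      obtain ⟨⟨hs, hr⟩, hrest⟩ := hok
      have hn : InQ b X (dec n) := eq_of_same hs ▸ prodOf_mem he r hr
      have h := closure_mem rest (env ++ [n]) (fun m hm => by
        rcases List.mem_append.1 hm with hm | hm
        · exact he m hm
        · rw [List.mem_singleton.1 hm]; exact hn) hrest
      simpa using h

end Cfsg.Agent.CSixSevenEight
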