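import Cfsg.Agent.CSixSeven.Basic
import Cfsg.Agent.SpecD4.Field

/-!
# The symplectic-type normaliser in dimension seven over eight elements: interface

The field is the model `K` with eight elements, the root of unity is `a`, where `a ^ 3 = a + 1`.
In characteristic two the Fourier matrix of this root has determinant one.
-/

set_option autoImplicit false

namespace Cfsg.Agent.CSixSevenEight

open Cfsg Cfsg.Geo
open Cfsg.Agent.CSixSeven

/-- The field with eight elements. -/
abbrev K := Cfsg.Agent.SpecD4.F8

/-- The distinguished primitive seventh root of unity. -/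
def wK : K := Cfsg.Agent.SpecD4.F8.mk 2

/-- An overgroup of the normaliser, given by generators. -/
structure Gens (X : Subgroup (GL (Fin 7) K)) : Prop where
  le_sl : X ≤ specialLinear (Fin 7) K
  y : InX X (Ym wK)
  x : InX X (Xm : M7 K)
  g : InX X (Gm wK)
  s : InX X (Sm : M7 K)
  z : InX X (Zm : M7 K)
  f : InX X (Fm wK)

/-- What the computation delivers. -/
def Dichotomy : Prop :=
  ∀ X : Subgroup (GL (Fin 7) K), Gens X →
    specialLinear (Fin 7) K ≤ X ∨ ∀ h ∈ X, NormR wK (h : M7 K)

end Cfsg.Agent.CSixSevenEight
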