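import Cfsg.Agent.CSixSevenEight.Defs
import Cfsg.Agent.DecompMax.LinearBasic

/-!
# One elementary transvection and the generators give the special linear group
-/

set_option autoImplicit false

namespace Cfsg.Agent.CSixSevenEight

open Cfsg Cfsg.Geo Matrix
open Cfsg.Agent.CSixSeven (InX M7 Ym Xm Sm Zm Dm w)

variable {X : Subgroup (GL (Fin 7) K)}

theorem inX_conj_eq {M T T' : M7 K} (hM : InX X M) (hT : InX X T) (he : M * T = T' * M) :
    InX X T' := by
  obtain ⟨g, hg, rfl⟩ := hM
  obtain ⟨t, ht, rfl⟩ := hT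
  refine ⟨g * t * g⁻¹, mul_mem (mul_mem hg ht) (inv_mem hg), ?_⟩
  rw [Units.val_mul, Units.val_mul, he, mul_assoc, Units.mul_inv, mul_one]

theorem mono_mul_one_add (σ : Fin 7 → Fin 7) (hσ : Function.Injective σ) (v : K) (a b : Fin 7) (c : K) :
    (Matrix.of fun i j => if i = σ j then v else 0) * (1 + Matrix.single a b c) =
      (1 + Matrix.single (σ a) (σ b) c) * Matrix.of fun i j => if i = σ j then v else 0 := by
  rw [mul_add, mul_one, add_mul, one_mul]
  congr 1
  ext i j
  simp only [Matrix.mul_apply, Matrix.single_apply, Matrix.of_apply, mul_ite, ite_mul, mul_zero,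
    zero_mul]
  by_cases hb : b = j
  · subst hb
    rw [Finset.sum_eq_single a (fun k _ hk => by simp [Ne.symm hk]) (by simp),
      Finset.sum_eq_single (σ b) (fun k _ hk => by simp [hk]) (by simp)]
    by_cases ha : i = σ a
    · subst ha; simp [mul_comm]
    · simp [ha, Ne.symm ha]
  · rw [Finset.sum_eq_zero (fun k _ => by simp [hb]),
      Finset.sum_eq_single (σ j) (fun k _ hk => by simp [hk]) (by simp)]
    simp [hσ.ne hb]

theorem sl_le_of_elem (hG : Gens X) (h : InX X (1 + Matrix.single (0 : Fin 7) 1 (1 : K))) :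
    Cfsg.Geo.specialLinear (Fin 7) K ≤ X := by
  have hd : ∀ {a b : Fin 7} {c : K}, InX X (1 + Matrix.single a b c) →
      InX X (1 + Matrix.single a b (w wK a * c * (w wK b)⁻¹)) := by
    intro a b c hc
    refine inX_conj_eq hG.y hc ?_
    have hb : w wK b ≠ 0 := (by decide +kernel : ∀ b : Fin 7, w wK b ≠ 0) b
    rw [mul_add, mul_one, add_mul, one_mul]
    congr 1
    ext i j
    rw [Ym, Dm, Matrix.diagonal_mul, Matrix.mul_diagonal, Matrix.single_apply, Matrix.single_apply]
    split_ifs with hij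
    · obtain ⟨rfl, rfl⟩ := hij; field_simp
    · simp
  have hs : ∀ {σ : Fin 7 → Fin 7} (_ : Function.Injective σ) {v : K}
      (_ : InX X (Matrix.of fun i j => if i = σ j then v else 0)) {a b : Fin 7} {c : K},
      InX X (1 + Matrix.single a b c) → InX X (1 + Matrix.single (σ a) (σ b) c) :=
    fun hσ v hv a b c hc => inX_conj_eq hv hc (mono_mul_one_add _ hσ v a b c)
  -- all multiples at the first place
  have hpow : ∀ k : ℕ, InX X (1 + Matrix.single (0 : Fin 7) 1 ((w wK 6) ^ k)) := by
    intro k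
    induction k with
    | zero => simpa using h
    | succ k ih =>
      have he : w wK 0 * (w wK 6) ^ k * (w wK 1)⁻¹ = (w wK 6) ^ (k + 1) := by
        rw [show w wK 0 = 1 from rfl, one_mul, (by decide +kernel : (w wK 1)⁻¹ = w wK 6), pow_succ]
      exact he ▸ hd ih
  have hc : ∀ c : K, InX X (1 + Matrix.single (0 : Fin 7) 1 c) := by
    intro c
    by_cases h0 : c = 0
    · exact ⟨1, X.one_mem, by simp [h0]⟩
    · obtain ⟨k, rfl⟩ := (by decide +kernel : ∀ c : K, c ≠ 0 → ∃ k : Fin 7, (w wK 6) ^ (k : ℕ) = c) c h0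
      exact hpow k
  -- the dilations and the parity move it to all places in the first row
  have hrow : ∀ d : Fin 7, d ≠ 0 → ∀ c : K, InX X (1 + Matrix.single (0 : Fin 7) d c) := by
    intro d hd0 c
    have h2 : ∀ {d : Fin 7}, InX X (1 + Matrix.single (0 : Fin 7) d c) →
        InX X (1 + Matrix.single (0 : Fin 7) (2 * d) c) := fun h => by
      have := hs (by decide : Function.Injective fun j : Fin 7 => 2 * j) hG.s h
      simpa using this
    have hz : ∀ {d : Fin 7}, InX X (1 + Matrix.single (0 : Fin 7) d c) →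
        InX X (1 + Matrix.single (0 : Fin 7) (-d) c) := fun h => by
      have := hs (neg_injective (G := Fin 7)) hG.z h
      simpa using this
    have h1 := hc c
    rcases (by decide : ∀ d : Fin 7, d ≠ 0 →
      d = 1 ∨ d = 2 * 1 ∨ d = 2 * (2 * 1) ∨ d = -1 ∨ d = -(2 * 1) ∨ d = -(2 * (2 * 1))) d hd0 with
      rfl | rfl | rfl | rfl | rfl | rfl
    exacts [h1, h2 h1, h2 (h2 h1), hz h1, hz (h2 h1), hz (h2 (h2 h1))]
  have hall : ∀ (a d : Fin 7), d ≠ 0 → ∀ c : K, InX X (1 + Matrix.single a (d + a) c) := by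
    intro a d hd0 c
    induction a using Fin.induction with
    | zero => simpa using hrow d hd0 c
    | succ i ih =>
      have := hs (add_left_injective (1 : Fin 7)) hG.x ih
      rw [← Fin.coeSucc_eq_succ, ← add_assoc]
      exact this
  refine DecompMax.Lin.specialLinear_le_of_elementary fun i j hij c => ?_
  obtain ⟨g, hg, e⟩ := hall i (j - i) (sub_ne_zero.2 (Ne.symm hij)) c
  refine ⟨g, hg, ?_⟩
  rw [sub_add_cancel] at e
  rw [e]
  congr 1
  ext x y
  simp only [Matrix.vecMulVec_apply, Matrix.single_apply, Pi.smul_apply, smul_eq_mul,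
    Cfsg.Agent.MaxSub.SubfieldMax.ev, Pi.single_apply]
  by_cases h1 : i = x <;> by_cases h2 : j = y <;> simp [h1, h2, eq_comm]

end Cfsg.Agent.CSixSevenEight
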