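import Cfsg.Agent.CSixSevenEight.Base
import Cfsg.Agent.CSixSeven.Blocks
import Cfsg.Agent.GeoClasses.Basic

/-!
# The action of the centraliser of the parity involution on three coordinates
-/

set_option autoImplicit false
set_option maxRecDepth 8000
set_option linter.unusedSectionVars false

namespace Cfsg.Agent.CSixSevenEight

open Cfsg Cfsg.Geo Matrix
open Cfsg.Agent.CSixSeven (InX Zm Ym Xm Kz)

/-- The matrices of the first three coordinates. -/
abbrev M3K := Matrix (Fin 3) (Fin 3) K

/-- The first three coordinates among the seven. -/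
def lo (i : Fin 3) : Fin 7 := ⟨i.val, by omega⟩

/-- The top block. -/
def top (M : M7K) : M3K := Matrix.of fun i j => M (lo i) (lo j)

/-- The parity involution in the new basis. -/
def zq : M7K := 1 + Nz

theorem unQ_three : unQ (Data.seeds.getD 3 0) = (Zm : M7K) := by
  have h := seeds_val
  simp only [Bool.and_eq_true] at h
  obtain ⟨⟨⟨⟨⟨⟨-, -⟩, -⟩, h3⟩, -⟩, -⟩, -⟩ := h
  exact eq_of_same h3

theorem zm_eq : (Zm : M7K) = qb.Q * zq * qb.Qi := by
  rw [← unQ_three, unQ_eq, eq_of_same one_add_Nz, zq]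

/-- The matrix of an element in the new basis. -/
def cq (h : GL (Fin 7) K) : M7K := qb.Qi * (h : M7K) * qb.Q

theorem cq_back (h : GL (Fin 7) K) : qb.Q * cq h * qb.Qi = (h : M7K) := by
  simp only [cq, ← Matrix.mul_assoc, qb.inv', Matrix.one_mul]
  rw [Matrix.mul_assoc, qb.inv', Matrix.mul_one]

theorem cq_of_eq {h : GL (Fin 7) K} {M : M7K} (e : (h : M7K) = qb.Q * M * qb.Qi) : cq h = M := by
  simp only [cq, e, ← Matrix.mul_assoc, qb.inv, Matrix.one_mul]
  rw [Matrix.mul_assoc, qb.inv, Matrix.mul_one]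

theorem cq_mul (h k : GL (Fin 7) K) : cq (h * k) = cq h * cq k := by
  refine cq_of_eq ?_
  rw [Units.val_mul, ← cq_back h, ← cq_back k]
  calc qb.Q * cq h * qb.Qi * (qb.Q * cq k * qb.Qi)
      = qb.Q * cq h * (qb.Qi * qb.Q) * cq k * qb.Qi := by simp only [Matrix.mul_assoc]
    _ = qb.Q * (cq h * cq k) * qb.Qi := by
      rw [qb.inv, Matrix.mul_one]; simp only [Matrix.mul_assoc]

theorem cq_one : cq 1 = 1 := cq_of_eq (by rw [Units.val_one, Matrix.mul_one, qb.inv'])

theorem cq_det (h : GL (Fin 7) K) : (cq h).det = (h : M7K).det := by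
  rw [cq, Matrix.det_mul, Matrix.det_mul, mul_comm qb.Qi.det, mul_assoc,
    ← Matrix.det_mul, qb.inv, Matrix.det_one, mul_one]

variable {X : Subgroup (GL (Fin 7) K)}

theorem cq_mem {h : GL (Fin 7) K} (hh : h ∈ X) : InQ qb X (cq h) := ⟨h, hh, (cq_back h).symm⟩

theorem cq_comm {h : GL (Fin 7) K} (hh : h ∈ Kz X) : cq h * Nz = Nz * cq h := by
  have e := hh.2.eq
  have e2 : qb.Q * (cq h * zq) * qb.Qi = qb.Q * (zq * cq h) * qb.Qi := by
    have expand : ∀ A B : M7K, qb.Q * (A * B) * qb.Qi = (qb.Q * A * qb.Qi) * (qb.Q * B * qb.Qi) := by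
      intro A B
      calc qb.Q * (A * B) * qb.Qi = qb.Q * A * (qb.Qi * qb.Q) * B * qb.Qi := by
            rw [qb.inv, Matrix.mul_one]; simp only [Matrix.mul_assoc]
        _ = _ := by simp only [Matrix.mul_assoc]
    rw [expand, expand, cq_back, ← zm_eq]; exact e
  have e3 := congrArg (fun A => qb.Qi * A * qb.Q) e2
  simp only [← Matrix.mul_assoc, qb.inv, Matrix.one_mul] at e3
  rw [Matrix.mul_assoc _ qb.Qi, Matrix.mul_assoc _ qb.Qi, qb.inv, Matrix.mul_one, Matrix.mul_one,
    zq, Matrix.mul_add, Matrix.add_mul, Matrix.mul_one, Matrix.one_mul] at e3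
  exact add_left_cancel e3

theorem mul_Nz_apply (M : M7K) {i j l : Fin 7} (h : j.val = l.val + 4) :
    (M * Nz) i j = M i l := by
  rw [Matrix.mul_apply, Finset.sum_eq_single l]
  · simp [Nz, h]
  · intro b _ hb
    have : b.val ≠ l.val := Fin.val_ne_of_ne hb
    simp [Nz, show ¬ j.val = b.val + 4 by omega]
  · simp

theorem Nz_mul_apply (M : M7K) {i j l : Fin 7} (h : l.val = i.val + 4) :
    (Nz * M) i j = M l j := by
  rw [Matrix.mul_apply, Finset.sum_eq_single l]
  · simp [Nz, h]
  · intro b _ hb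
    have : b.val ≠ l.val := Fin.val_ne_of_ne hb
    simp [Nz, show ¬ b.val = i.val + 4 by omega]
  · simp

theorem Nz_mul_zero (M : M7K) {i j : Fin 7} (h : 3 ≤ i.val) : (Nz * M) i j = 0 := by
  rw [Matrix.mul_apply]
  refine Finset.sum_eq_zero fun b _ => ?_
  simp [Nz, show ¬ b.val = i.val + 4 by omega]

theorem mul_Nz_zero (M : M7K) {i j : Fin 7} (h : j.val < 4) : (M * Nz) i j = 0 := by
  rw [Matrix.mul_apply]
  refine Finset.sum_eq_zero fun b _ => ?_
  simp [Nz, show ¬ j.val = b.val + 4 by omega]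

theorem low_zero {M : M7K} (e : M * Nz = Nz * M) :
    (∀ i j : Fin 7, 3 ≤ i.val → j.val < 3 → M i j = 0) ∧
    (∀ i j : Fin 7, 4 ≤ i.val → j.val < 4 → M i j = 0) ∧
    ∀ i j : Fin 3, M ⟨i.val + 4, by omega⟩ ⟨j.val + 4, by omega⟩ = M (lo i) (lo j) := by
  have key : ∀ i j : Fin 7, (M * Nz) i j = (Nz * M) i j := fun i j => by rw [e]
  refine ⟨fun i j hi hj => ?_, fun i j hi hj => ?_, fun i j => ?_⟩
  · rw [← mul_Nz_apply M (i := i) (j := ⟨j.val + 4, by omega⟩) (l := j) rfl, key,
      Nz_mul_zero M hi]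
  · rw [← Nz_mul_apply M (i := ⟨i.val - 4, by omega⟩) (j := j) (l := i)
      (by show i.val = i.val - 4 + 4; omega), ← key, mul_Nz_zero M hj]
  · rw [← Nz_mul_apply M (i := lo i) (j := ⟨j.val + 4, by omega⟩) (l := ⟨i.val + 4, by omega⟩) rfl,
      ← key, mul_Nz_apply M (l := lo j) rfl]

theorem top_mul {M N : M7K} (hN : N * Nz = Nz * N) : top (M * N) = top M * top N := by
  obtain ⟨h0, -, -⟩ := low_zero hN
  ext i j
  show (M * N) (lo i) (lo j) = _
  have hj : (lo j).val < 3 := j.2
  rw [Matrix.mul_apply, Matrix.mul_apply, Fin.sum_univ_seven, Fin.sum_univ_three,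
    h0 3 _ (by decide) hj, h0 4 _ (by decide) hj, h0 5 _ (by decide) hj, h0 6 _ (by decide) hj]
  simp only [mul_zero, add_zero, top, lo, Matrix.of_apply]
  rfl

theorem top_one : top 1 = 1 := by decide +kernel

theorem top_smul (c : K) (M : M7K) : top (c • M) = c • top M := rfl

theorem top_zq : top zq = 1 := by decide +kernel

theorem zq_sq : zq * zq = 1 := by
  rw [zq, ← eq_of_same one_add_Nz, ← mul7_eq]
  exact eq_of_same (by decide +kernel)

/-! ### Scalars -/

theorem ym_xm : (Ym wK : M7K) * Xm = wK • ((Xm : M7K) * Ym wK) := by decide +kernel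

theorem wK_pow_all : ∀ c : K, c ≠ 0 → ∃ n : Fin 7, wK ^ n.val = c := by decide +kernel

theorem scalar_mem (hG : Gens X) {c : K} (hc : c ≠ 0) : InX X (c • (1 : M7K)) := by
  obtain ⟨y, hy, ey⟩ := hG.y
  obtain ⟨x, hx, ex⟩ := hG.x
  have hw : InX X (wK • (1 : M7K)) := by
    refine ⟨y * x * y⁻¹ * x⁻¹, mul_mem (mul_mem (mul_mem hy hx) (inv_mem hy)) (inv_mem hx), ?_⟩
    simp only [Units.val_mul]
    rw [ey, ex, ym_xm, ← ey, ← ex, Matrix.smul_mul, Matrix.smul_mul, Units.mul_inv_cancel_right,
      Units.mul_inv]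
  obtain ⟨n, rfl⟩ := wK_pow_all c hc
  have := hw.pow n.val
  rwa [_root_.smul_pow, one_pow] at this

/-! ### The normalised action -/

theorem pow_seven_eq : ∀ c : K, c ≠ 0 → c * c * c * (c * c * c) * c = 1 := by decide +kernel

theorem sq_cube : ∀ c : K, c ≠ 0 → (c * c) * (c * c) * (c * c) * c = 1 := by decide +kernel

/-- The normalised top block. -/
def norm3 (A : M3K) : M3K := (A.det * A.det) • A

theorem norm3_one : norm3 1 = 1 := by
  rw [norm3, Matrix.det_one, mul_one, one_smul]

theorem norm3_mul (A B : M3K) : norm3 (A * B) = norm3 A * norm3 B := by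
  simp only [norm3, Matrix.det_mul, Matrix.smul_mul, Matrix.mul_smul, smul_smul]
  congr 1; ring

/-- The normalised top block of an element of the centraliser, as a monoid homomorphism. -/
noncomputable def actM (X : Subgroup (GL (Fin 7) K)) : Kz X →* M3K where
  toFun h := norm3 (top (cq h.1))
  map_one' := by rw [Subgroup.coe_one, cq_one, top_one, norm3_one]
  map_mul' h k := by rw [Subgroup.coe_mul, cq_mul, top_mul (cq_comm k.2), norm3_mul]

/-- The homomorphism to the matrices of determinant one. -/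
noncomputable def act (X : Subgroup (GL (Fin 7) K)) : Kz X →* GL (Fin 3) K :=
  (actM X).toHomUnits

theorem act_val (h : Kz X) :
    (act X h : M3K) = ((top (cq h.1)).det * (top (cq h.1)).det) • top (cq h.1) := rfl

theorem top_det_ne_zero (h : Kz X) : (top (cq h.1)).det ≠ 0 := by
  intro e
  have := (Matrix.isUnit_iff_isUnit_det _).1 (act X h).isUnit
  rw [act_val, e, zero_mul, zero_smul, Matrix.det_zero] at this
  exact not_isUnit_zero this

theorem act_det (h : Kz X) : (act X h : M3K).det = 1 := by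
  rw [act_val, Matrix.det_smul, Fintype.card_fin, pow_three]
  rw [← mul_assoc ((top (cq h)).det * _)]
  exact sq_cube _ (top_det_ne_zero h)

theorem cube_eq_one : ∀ c : K, c ≠ 0 → c * c * c * c * c * c * c = 1 := by decide +kernel

/-- The entries of a matrix with scalar top block, outside the radical. -/
theorem scalar_shape {M : M7K} (e : M * Nz = Nz * M) {c : K} (ht : top M = c • 1) (i j : Fin 7)
    (hn : ¬ ((i.val < 3 ∧ 3 ≤ j.val) ∨ (i.val = 3 ∧ 4 ≤ j.val))) (h3 : ¬ (i.val = 3 ∧ j.val = 3)) :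
    M i j = if i = j then c else 0 := by
  obtain ⟨h0, h1, h2⟩ := low_zero e
  have tt : ∀ a b : Fin 3, M (lo a) (lo b) = if a = b then c else 0 := fun a b => by
    have := congrFun (congrFun ht a) b
    simpa [top, Matrix.one_apply] using this
  by_cases hj : j.val < 3
  · by_cases hi : i.val < 3
    · have := tt ⟨i.val, hi⟩ ⟨j.val, hj⟩
      simp only [lo, Fin.ext_iff, Fin.eta] at this ⊢
      exact this
    · rw [h0 i j (by omega) hj, if_neg fun h => ?_]
      have := congrArg Fin.val h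
      omega
  · have hi : 4 ≤ i.val := by omega
    by_cases hj4 : j.val < 4
    · rw [h1 i j hi hj4, if_neg fun h => ?_]
      have := congrArg Fin.val h
      omega
    · have ei : i = ⟨i.val - 4 + 4, by omega⟩ := Fin.ext (by show i.val = i.val - 4 + 4; omega)
      have ej : j = ⟨j.val - 4 + 4, by omega⟩ := Fin.ext (by show j.val = j.val - 4 + 4; omega)
      have := h2 ⟨i.val - 4, by omega⟩ ⟨j.val - 4, by omega⟩
      rw [tt, ← ei, ← ej] at this
      rw [this]
      exact if_congr (by simp only [Fin.ext_iff]; omega) rfl rfl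

theorem scalar_det {M : M7K} (e : M * Nz = Nz * M) {c : K} (ht : top M = c • 1) :
    M.det = c * c * c * M 3 3 * c * c * c := by
  have up : M.IsUpperTriangular := fun i j (hij : j < i) => by
    have hv : j.val < i.val := hij
    rw [scalar_shape e ht i j (by omega) (by omega), if_neg (Fin.ne_of_lt hij).symm]
  rw [Matrix.det_of_isUpperTriangular up, Fin.prod_univ_seven,
    scalar_shape e ht 0 0 (by decide) (by decide), scalar_shape e ht 1 1 (by decide) (by decide),
    scalar_shape e ht 2 2 (by decide) (by decide), scalar_shape e ht 4 4 (by decide) (by decide),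
    scalar_shape e ht 5 5 (by decide) (by decide), scalar_shape e ht 6 6 (by decide) (by decide)]
  simp only [if_true]

theorem det_step : ∀ c d : K, c ≠ 0 → c * c * c * d * c * c * c = 1 → d = c := by decide +kernel

/-- An element acting trivially is a scalar, times the parity involution perhaps. -/
theorem act_eq_one (hG : Gens X) (hK : SmallKernel X) {h : Kz X} (e : act X h = 1) :
    ∃ c : K, c ≠ 0 ∧ (cq h.1 = c • 1 ∨ cq h.1 = c • zq) := by
  have e' : ((top (cq h.1)).det * (top (cq h.1)).det) • top (cq h.1) = 1 := by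
    rw [← act_val, e, Units.val_one]
  have hd0 := top_det_ne_zero h
  obtain ⟨c, hc⟩ : ∃ c, c = ((top (cq h.1)).det * (top (cq h.1)).det)⁻¹ := ⟨_, rfl⟩
  have hc0 : c ≠ 0 := hc ▸ inv_ne_zero (mul_ne_zero hd0 hd0)
  have htop : top (cq h.1) = c • 1 := by
    rw [← e', smul_smul, hc, inv_mul_cancel₀ (mul_ne_zero hd0 hd0), one_smul]
  have hcom := cq_comm h.2
  have hdet : (cq h.1).det = 1 := by
    rw [cq_det]
    simpa using congrArg Units.val (MonoidHom.mem_ker.1 (hG.le_sl h.2.1))
  have h33 : cq h.1 3 3 = c :=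
    det_step c _ hc0 (by rw [← hdet, scalar_det hcom htop])
  have hrad : InRad (c⁻¹ • cq h.1 - 1) := by
    intro i j hij
    by_contra hn
    apply hij
    rw [Matrix.sub_apply, Matrix.smul_apply, smul_eq_mul, Matrix.one_apply]
    by_cases h3 : i.val = 3 ∧ j.val = 3
    · obtain rfl : i = 3 := Fin.ext h3.1
      obtain rfl : j = 3 := Fin.ext h3.2
      rw [h33, inv_mul_cancel₀ hc0, if_pos rfl, sub_self]
    · rw [scalar_shape hcom htop i j hn h3]
      split
      · rw [inv_mul_cancel₀ hc0, sub_self]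
      · rw [mul_zero, sub_zero]
  have hin : InQ qb X (1 + (c⁻¹ • cq h.1 - 1)) := by
    rw [add_sub_cancel]
    obtain ⟨s, hs, es⟩ := scalar_mem hG (inv_ne_zero hc0)
    exact ⟨s * h.1, mul_mem hs h.2.1, by
      rw [Units.val_mul, es, Matrix.smul_mul, Matrix.one_mul, Matrix.mul_smul, Matrix.smul_mul,
        cq_back]⟩
  refine ⟨c, hc0, ?_⟩
  have back : cq h.1 = c • (c⁻¹ • cq h.1) := by rw [smul_smul, mul_inv_cancel₀ hc0, one_smul]
  rcases hK _ hrad hin with e0 | e0
  · left; rw [back, sub_eq_zero.1 e0]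
  · right; rw [back, sub_eq_iff_eq_add.1 e0, zq, add_comm]

end Cfsg.Agent.CSixSevenEight
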