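import Cfsg.Agent.CSixSevenEight.Base

/-!
# Linear identities on supported matrices, checked on the elementary ones
-/

set_option autoImplicit false

namespace Cfsg.Agent.CSixSevenEight

open Cfsg Cfsg.Geo Matrix

abbrev Pos := Fin 7 × Fin 7

/-- The positions of an element of `ps`. -/
def Supp (ps : List Pos) (N : M7K) : Prop := ∀ i j : Fin 7, (i, j) ∉ ps → N i j = 0

/-- The elementary matrix at a position. -/
def eM (q : Pos) : M7K := Matrix.of fun i j => if i = q.1 ∧ j = q.2 then 1 else 0

/-- An entry, as a linear map. -/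
def entryL (q : Pos) : M7K →ₗ[K] K :=
  { toFun := fun N => N q.1 q.2, map_add' := fun _ _ => rfl, map_smul' := fun _ _ => rfl }

@[simp] theorem entryL_apply (q : Pos) (N : M7K) : entryL q N = N q.1 q.2 := rfl

theorem supp_decomp {ps : List Pos} {N : M7K} (hN : Supp ps N) :
    N = ∑ q ∈ ps.toFinset, N q.1 q.2 • eM q := by
  ext i j
  rw [Matrix.sum_apply]
  have he : ∀ q : Pos, (N q.1 q.2 • eM q) i j = if (i, j) = q then N i j else 0 := by
    intro q
    by_cases h : (i, j) = q
    · subst h; simp [eM]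
    · have h' : ¬ (i = q.1 ∧ j = q.2) := fun h' => h (Prod.ext h'.1 h'.2)
      simp [eM, h, h']
  simp only [he, Finset.sum_ite_eq, List.mem_toFinset]
  split_ifs with h
  · rfl
  · exact hN i j h

/-- Linear maps agreeing on the elementary matrices agree on supported matrices. -/
theorem ext_supp {W : Type*} [AddCommGroup W] [Module K W] {ps : List Pos} (f g : M7K →ₗ[K] W)
    (h : ∀ q ∈ ps, f (eM q) = g (eM q)) {N : M7K} (hN : Supp ps N) : f N = g N := by
  rw [supp_decomp hN, map_sum, map_sum]
  exact Finset.sum_congr rfl fun q hq => by rw [map_smul, map_smul, h q (List.mem_toFinset.1 hq)]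

/-- Conjugation by a word, linearly. -/
def conjL (p : ℕ × ℕ) : M7K →ₗ[K] M7K :=
  (LinearMap.mulLeft K (dec p.1)).comp (LinearMap.mulRight K (dec p.2))

theorem conjL_apply (p : ℕ × ℕ) (N : M7K) : conjL p N = dec p.1 * (N * dec p.2) := rfl

/-- A sum of conjugations. -/
def opL (L : List (ℕ × ℕ)) : M7K →ₗ[K] M7K := (L.map conjL).sum

theorem opL_nil (N : M7K) : opL [] N = 0 := rfl

theorem opL_cons (p : ℕ × ℕ) (L : List (ℕ × ℕ)) (N : M7K) :
    opL (p :: L) N = conjL p N + opL L N := rfl

/-- The value of a conjugation on an elementary matrix. -/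
def conjFast (p : ℕ × ℕ) (q : Pos) (i j : Fin 7) : K := dec p.1 i q.1 * dec p.2 q.2 j

/-- The value of a sum of conjugations on an elementary matrix. -/
def opFast : List (ℕ × ℕ) → Pos → Fin 7 → Fin 7 → K
  | [], _, _, _ => 0
  | p :: L, q, i, j => conjFast p q i j + opFast L q i j

theorem conjL_eM (p : ℕ × ℕ) (q : Pos) (i j : Fin 7) : conjL p (eM q) i j = conjFast p q i j := by
  rw [conjL_apply, Matrix.mul_apply, Finset.sum_eq_single q.1]
  · rw [Matrix.mul_apply, Finset.sum_eq_single q.2]
    · simp [eM, conjFast]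
    · intro c _ hc; simp [eM, hc]
    · simp
  · intro c _ hc
    rw [Matrix.mul_apply, Finset.sum_eq_zero, mul_zero]
    intro d _; simp [eM, hc]
  · simp

theorem opL_eM (L : List (ℕ × ℕ)) (q : Pos) (i j : Fin 7) : opL L (eM q) i j = opFast L q i j := by
  induction L with
  | nil => rfl
  | cons p L ih => rw [opL_cons, Matrix.add_apply, conjL_eM, ih, opFast]

/-- All positions. -/
def allPos : List Pos := (List.finRange 7).flatMap fun i => (List.finRange 7).map fun j => (i, j)

theorem mem_allPos (q : Pos) : q ∈ allPos := by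
  obtain ⟨i, j⟩ := q
  simp [allPos]

/-- Each conjugation of the list maps `ps` into `ts`. -/
def opSupp (L : List (ℕ × ℕ)) (ps ts : List Pos) : Bool :=
  allPos.all fun r => decide (r ∈ ts) || L.all fun p => ps.all fun q => decide (conjFast p q r.1 r.2 = 0)

theorem conjL_supp {L : List (ℕ × ℕ)} {ps ts : List Pos} (h : opSupp L ps ts = true)
    {p : ℕ × ℕ} (hp : p ∈ L) {N : M7K} (hN : Supp ps N) : Supp ts (conjL p N) := by
  intro i j hij
  have h1 := List.all_eq_true.1 h (i, j) (mem_allPos _)
  simp only [hij, decide_false, Bool.false_or, List.all_eq_true, decide_eq_true_eq] at h1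
  exact ext_supp ((entryL (i, j)).comp (conjL p)) 0 (fun q hq => by
    simpa [conjL_eM] using h1 p hp q hq) hN

theorem Supp.zero {ps : List Pos} : Supp ps 0 := fun _ _ _ => rfl

theorem Supp.add {ps : List Pos} {A B : M7K} (hA : Supp ps A) (hB : Supp ps B) : Supp ps (A + B) :=
  fun i j h => by rw [Matrix.add_apply, hA i j h, hB i j h, add_zero]

/-- No position of `ps` follows another one. -/
def sqZero (ps : List Pos) : Bool := ps.all fun q => ps.all fun r => decide (q.2 ≠ r.1)

theorem mul_eq_zero_of_supp {ps : List Pos} (h : sqZero ps = true) {A B : M7K} (hA : Supp ps A)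
    (hB : Supp ps B) : A * B = 0 := by
  simp only [sqZero, List.all_eq_true, decide_eq_true_eq] at h
  ext i j
  rw [Matrix.mul_apply, Matrix.zero_apply]
  refine Finset.sum_eq_zero fun c _ => ?_
  by_cases h1 : (i, c) ∈ ps
  · by_cases h2 : (c, j) ∈ ps
    · exact absurd rfl (h _ h1 _ h2)
    · rw [hB c j h2, mul_zero]
  · rw [hA i c h1, zero_mul]

theorem one_add_mul_one_add {ps : List Pos} (h : sqZero ps = true) {A B : M7K} (hA : Supp ps A)
    (hB : Supp ps B) : (1 + A) * (1 + B) = 1 + (A + B) := by
  rw [Matrix.add_mul, Matrix.one_mul, Matrix.mul_add, Matrix.mul_one,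
    mul_eq_zero_of_supp h hA hB, add_zero, add_assoc, add_comm B A]

variable {X : Subgroup (GL (Fin 7) K)}

/-- A sum of conjugates of `N` gives an element of `X` with `1 + N`. -/
theorem opL_mem (hG : Gens X) {ps : List Pos} (hsq : sqZero ps = true) {N : M7K} (hN : Supp ps N)
    (hX : InQ qb X (1 + N)) : ∀ L : List (ℕ × ℕ), L.all pairOk = true → opSupp L ps ps = true →
      InQ qb X (1 + opL L N) ∧ Supp ps (opL L N) := by
  intro L hL hs
  have key : ∀ L' : List (ℕ × ℕ), (∀ p ∈ L', p ∈ L) →
      InQ qb X (1 + opL L' N) ∧ Supp ps (opL L' N) := by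
    intro L'
    induction L' with
    | nil => exact fun _ => ⟨by simpa [opL_nil] using InQ.one, Supp.zero⟩
    | cons p L' ih =>
      intro hsub
      obtain ⟨h1, h2⟩ := ih fun r hr => hsub r (List.mem_cons_of_mem p hr)
      have hp : p ∈ L := hsub p List.mem_cons_self
      obtain ⟨hw, hwi, e, -⟩ := pair_spec hG (List.all_eq_true.1 hL p hp)
      have h3 := conjL_supp hs hp hN
      rw [opL_cons, ← one_add_mul_one_add hsq h3 h2]
      refine ⟨InQ.mul ?_ h1, h3.add h2⟩
      have : dec p.1 * ((1 + N) * dec p.2) = 1 + conjL p N := by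
        rw [Matrix.add_mul, Matrix.one_mul, Matrix.mul_add, e, conjL_apply]
      rw [← this]
      exact hw.mul (hX.mul hwi)
  exact key L fun _ h => h

end Cfsg.Agent.CSixSevenEight
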