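import Cfsg.Agent.CSixSevenEight.LowCheck

/-!
# The kernel of the action on three coordinates is generated by the parity involution
-/

set_option autoImplicit false
set_option maxRecDepth 4000

open scoped Classical

namespace Cfsg.Agent.CSixSevenEight

open Cfsg Cfsg.Geo Matrix
open Cfsg.Agent.CSixSeven (InX)

/-- Zero or one. -/
def Bit (x : K) : Prop := x = 0 ∨ x = 1

theorem Bit.add {x y : K} (hx : Bit x) (hy : Bit y) : Bit (x + y) := by
  rcases hx with rfl | rfl <;> rcases hy with rfl | rfl <;> simp [Bit, CharTwo.add_self_eq_zero]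

theorem Bit.zero : Bit (0 : K) := Or.inl rfl

theorem Bit.sum : ∀ {l : List K}, (∀ x ∈ l, Bit x) → Bit l.sum
  | [], _ => Bit.zero
  | a :: l, h => by
      rw [List.sum_cons]
      exact (h a List.mem_cons_self).add (Bit.sum fun x hx => h x (List.mem_cons_of_mem a hx))

theorem exists_el : ∀ x : K, x = 0 ∨ x = 1 ∨ ∃ k < 6, x = elK (k + 2) := by decide +kernel

theorem exists_el' : ∀ x : K, x = 0 ∨ ∃ k < 7, x = elK (k + 1) := by decide +kernel

theorem sum_map_linear {ι : Type*} (l : List ι) (g : ι → M7K →ₗ[K] K) (N : M7K) :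
    (l.map g).sum N = (l.map fun t => g t N).sum := by
  induction l with
  | nil => rfl
  | cons a l ih => simp [ih]

theorem funs_eq_low : ∀ q ∈ posLow, ∀ r ∈ posLow, eM q r.1 r.2 = (if r.2.val = r.1.val + 4 then
    eM q 0 4 else 0) + (if r = (1, 5) then fnFast 6 (fun i j => eM q i j) else
    if r = (2, 6) then fnFast 7 (fun i j => eM q i j) else
    if r = (0, 5) then fnFast 0 (fun i j => eM q i j) else
    if r = (0, 6) then fnFast 1 (fun i j => eM q i j) else
    if r = (1, 4) then fnFast 2 (fun i j => eM q i j) else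
    if r = (1, 6) then fnFast 3 (fun i j => eM q i j) else
    if r = (2, 4) then fnFast 4 (fun i j => eM q i j) else
    if r = (2, 5) then fnFast 5 (fun i j => eM q i j) else 0) := by decide +kernel

theorem Nz_apply (i j : Fin 7) : Nz i j = if j.val = i.val + 4 then 1 else 0 := rfl

/-- A block killed by the eight functionals is scalar. -/
theorem low_scalar {N : M7K} (hN : Supp posLow N) (h : ∀ f < 8, fnL f N = 0) :
    N = N 0 4 • Nz := by
  ext i j
  rw [Matrix.smul_apply, smul_eq_mul, Nz_apply, mul_ite, mul_one, mul_zero]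
  by_cases hij : (i, j) ∈ posLow
  · have key : ∀ f, f < 8 → fnFast f (fun i j => N i j) = 0 := fun f hf => fnL_apply f N ▸ h f hf
    have e := ext_supp (entryL (i, j))
      ((if j.val = i.val + 4 then entryL (0, 4) else 0) + (if (i, j) = (1, 5) then fnL 6 else
        if (i, j) = (2, 6) then fnL 7 else if (i, j) = (0, 5) then fnL 0 else
        if (i, j) = (0, 6) then fnL 1 else if (i, j) = (1, 4) then fnL 2 else
        if (i, j) = (1, 6) then fnL 3 else if (i, j) = (2, 4) then fnL 4 else
        if (i, j) = (2, 5) then fnL 5 else 0))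
      (fun q hq => by
        have h := funs_eq_low q hq (i, j) hij
        simp only [LinearMap.add_apply, apply_ite (fun L : M7K →ₗ[K] K => L (eM q)), fnL_apply,
          entryL_apply, LinearMap.zero_apply]
        exact h) hN
    simp only [LinearMap.add_apply, apply_ite (fun L : M7K →ₗ[K] K => L N), entryL_apply,
      LinearMap.zero_apply, h 0 (by norm_num), h 1 (by norm_num), h 2 (by norm_num),
      h 3 (by norm_num), h 4 (by norm_num), h 5 (by norm_num), h 6 (by norm_num),
      h 7 (by norm_num), ite_self, add_zero] at e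
    exact e
  · rw [hN i j hij, if_neg]
    intro hd
    exact hij ((by decide +kernel : ∀ i j : Fin 7, j.val = i.val + 4 → (i, j) ∈ posLow) i j hd)

variable {X : Subgroup (GL (Fin 7) K)}

/-- No element of `X` is an elementary transvection of the new basis. -/
def NoElem (X : Subgroup (GL (Fin 7) K)) : Prop :=
  ¬ InX X (1 + Matrix.single (0 : Fin 7) 1 (1 : K))

theorem cert_last (hG : Gens X) {c : ℕ × List (ℕ × List ℕ)} (hc : certOk c = true) {M : M7K}
    (he : dec c.1 = M) (hM : InQ qb X M) : InQ qb X (lastM c) := by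
  have h := closure_mem c.2 (Data.baseEnv ++ [c.1]) (fun n hn => by
    rcases List.mem_append.1 hn with h | h
    · exact base_mem hG n h
    · rw [List.mem_singleton.1 h, he]; exact hM) hc
  refine h _ ?_
  rw [List.getLastD_eq_getLast?]
  rcases hl : (c.2.map Prod.fst).getLast? with _ | n
  · simp
  · exact List.mem_append_right _ (List.mem_of_getLast? hl)

theorem supp_of_check {ps : List Pos} {M : M7K}
    (h : (allPos.all fun r => decide (r ∈ ps) || decide (M r.1 r.2 = 0)) = true) : Supp ps M :=
  fun i j hij => by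
    simpa [hij] using List.all_eq_true.1 h (i, j) (mem_allPos _)

theorem one_add_sub (M : M7K) : 1 + (M - 1) = M := add_sub_cancel 1 M

theorem no_tv (hG : Gens X) (hX : NoElem X) {c : K} (hc : InQ qb X (1 + c • eM (0, 5))) :
    c = 0 := by
  rcases exists_el' c with h | ⟨k, hk, rfl⟩
  · exact h
  exfalso
  have h := List.all_eq_true.1 tv_ok k (List.mem_range.2 hk)
  simp only [tvOk, Bool.and_eq_true] at h
  obtain ⟨⟨h1, h2⟩, h3⟩ := h
  have hl := cert_last hG h1 (eq_of_same h2) hc
  apply hX
  have e := eq_of_same h3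
  rw [mul7_eq, mul7_eq] at e
  exact e ▸ hl

theorem low_fun_zero (hG : Gens X) (hX : NoElem X) {N : M7K} (hN : Supp posLow N)
    (hI : InQ qb X (1 + N)) {f : ℕ} (hf : f < 8) : fnL f N = 0 := by
  have h := List.all_eq_true.1 low_ops_ok f (List.mem_range.2 hf)
  simp only [lowFunOk, Bool.and_eq_true] at h
  obtain ⟨⟨h1, h2⟩, h3⟩ := h
  obtain ⟨hm, -⟩ := opL_mem hG (by decide) hN hI _ h1 h2
  have e : opL (Data.lowOps.getD f []) N = fnL f N • eM (0, 5) := by
    ext i j
    refine ext_supp ((entryL (i, j)).comp (opL (Data.lowOps.getD f [])))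
      ((entryL (i, j)).comp ((fnL f).smulRight (eM (0, 5)))) (fun q hq => ?_) hN
    have h4 := List.all_eq_true.1 (List.all_eq_true.1 h3 q hq) (i, j) (mem_allPos _)
    rw [decide_eq_true_eq] at h4
    simp only [LinearMap.comp_apply, entryL_apply, opL_eM, LinearMap.smulRight_apply,
      Matrix.smul_apply, smul_eq_mul, fnL_apply, h4]
    by_cases hr : (i, j) = ((0, 5) : Pos)
    · obtain ⟨rfl, rfl⟩ := Prod.ext_iff.1 hr
      rw [if_pos rfl, show eM ((0, 5) : Pos) (0 : Fin 7) 5 = (1 : K) from rfl, mul_one]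
    · rw [if_neg hr, show eM ((0, 5) : Pos) i j = (0 : K) from
        if_neg fun h' => hr (Prod.ext h'.1 h'.2), mul_zero]
  exact no_tv hG hX (e ▸ hm)

theorem scalar_bit (hG : Gens X) (hX : NoElem X) {s : K} (hI : InQ qb X (1 + s • Nz)) : Bit s := by
  rcases exists_el s with h | h | ⟨k, hk, rfl⟩
  · exact Or.inl h
  · exact Or.inr h
  exfalso
  have h := List.all_eq_true.1 scalar_ok k (List.mem_range.2 hk)
  simp only [scalarOk, Bool.and_eq_true] at h
  obtain ⟨⟨⟨h1, h2⟩, h3⟩, h4⟩ := h
  have hl := cert_last hG h1 (eq_of_same h2) hI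
  obtain ⟨f, hf, hne⟩ := List.any_eq_true.1 h4
  rw [decide_eq_true_eq] at hne
  have hz := low_fun_zero hG hX (supp_of_check h3) (by rw [one_add_sub]; exact hl)
    (List.mem_range.1 hf)
  rw [fnL_apply] at hz
  exact hne hz

/-- Blocks in `X` are `0` or the parity block. -/
theorem low_cases (hG : Gens X) (hX : NoElem X) {N : M7K} (hN : Supp posLow N)
    (hI : InQ qb X (1 + N)) : N = 0 ∨ N = Nz := by
  have e := low_scalar hN fun f hf => low_fun_zero hG hX hN hI hf
  rcases scalar_bit hG hX (e ▸ hI) with h | h <;> rw [h] at e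
  · exact Or.inl (by rw [e, zero_smul])
  · exact Or.inr (by rw [e, one_smul])

theorem fn_bit (hG : Gens X) (hX : NoElem X) {N : M7K} (hN : Supp posLow N)
    (hI : InQ qb X (1 + N)) {f : ℕ} (hf : f < 9) : Bit (fnL f N) := by
  rcases Nat.lt_succ_iff_lt_or_eq.1 hf with h | rfl
  · exact Or.inl (low_fun_zero hG hX hN hI h)
  · rcases low_cases hG hX hN hI with rfl | rfl
    · exact Or.inl (map_zero _)
    · rw [fnL_apply]
      exact (by decide +kernel : ∀ x : K, x = fnFast 8 (fun i j => Nz i j) → x = 0 ∨ x = 1) _ rfl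

theorem isBit_iff (x : K) : isBit x = true ↔ Bit x := by simp [isBit, Bit]

theorem nz_mem (hG : Gens X) : InQ qb X (1 + Nz) :=
  eq_of_same one_add_Nz ▸ seeds_mem hG _ (by decide +kernel)

/-- A supported element of `X` is `0` or the parity block. -/
theorem side_cases (hG : Gens X) (hX : NoElem X) {S : Side} (hS : S.ok = true) {N : M7K}
    (hN : Supp S.ps N) (hI : InQ qb X (1 + N)) : N = 0 ∨ N = Nz := by
  simp only [Side.ok, Bool.and_eq_true] at hS
  obtain ⟨⟨⟨⟨⟨hsq, hnz⟩, hops⟩, hfree⟩, hcoord⟩, hcand⟩ := hS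
  have hop : ∀ {M : M7K}, Supp S.ps M → InQ qb X (1 + M) → ∀ e < S.ops.length,
      Supp posLow (opL (S.ops.getD e []) M) ∧ InQ qb X (1 + opL (S.ops.getD e []) M) := by
    intro M hM hMI e he
    have hL := List.all_eq_true.1 hops (S.ops.getD e [])
      (by rw [List.getD_eq_getElem _ _ he]; exact List.getElem_mem he)
    simp only [Bool.and_eq_true] at hL
    obtain ⟨⟨h1, h2⟩, h3⟩ := hL
    refine ⟨fun i j hij => ?_, (opL_mem hG hsq hM hMI _ h1 h2).1⟩
    refine ext_supp ((entryL (i, j)).comp (opL (S.ops.getD e []))) 0 (fun q hq => ?_) hM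
    have h4 := List.all_eq_true.1 h3 (i, j) (mem_allPos _)
    simp only [hij, decide_false, Bool.false_or, List.all_eq_true, decide_eq_true_eq] at h4
    simpa [opL_eM] using h4 q hq
  have term : ∀ (q : Pos) (t : ℕ × ℕ),
      termFast S q t = fnL t.2 (opL (S.ops.getD t.1 []) (eM q)) := by
    intro q t
    rw [termFast, fnL_apply]
    congr 1
    funext i j
    exact (opL_eM _ _ _ _).symm
  set g : ℕ × ℕ → M7K →ₗ[K] K := fun t => (fnL t.2).comp (opL (S.ops.getD t.1 [])) with hg
  have hfb : ∀ {M : M7K}, Supp S.ps M → InQ qb X (1 + M) → ∀ i < 4,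
      Bit (M (S.free.getD i (0, 0)).1 (S.free.getD i (0, 0)).2) := by
    intro M hM hMI i hi
    have h := List.all_eq_true.1 hfree i (List.mem_range.2 hi)
    simp only [Bool.and_eq_true] at h
    obtain ⟨h1, h2⟩ := h
    have e := ext_supp (entryL (S.free.getD i (0, 0))) ((S.freeC.getD i []).map g).sum
      (fun q hq => by
        have := List.all_eq_true.1 h2 q hq
        rw [decide_eq_true_eq] at this
        rw [sum_map_linear, entryL_apply, this]
        congr 1
        refine List.map_congr_left fun t _ => ?_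
        exact term q t) hM
    rw [entryL_apply, sum_map_linear] at e
    rw [e]
    refine Bit.sum fun x hx => ?_
    obtain ⟨t, ht, rfl⟩ := List.mem_map.1 hx
    have ht' := List.all_eq_true.1 h1 t ht
    rw [decide_eq_true_eq] at ht'
    obtain ⟨hs, hm⟩ := hop hM hMI t.1 ht'.1
    exact fn_bit hG hX hs hm ht'.2
  have hcoord' : ∀ {M : M7K}, Supp S.ps M → InQ qb X (1 + M) →
      M = candM S fun i => M (S.free.getD i (0, 0)).1 (S.free.getD i (0, 0)).2 := by
    intro M hM hMI
    ext i j
    rw [candM, Matrix.of_apply]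
    by_cases hij : (i, j) ∈ S.ps
    · rw [if_pos hij]
      have h := List.all_eq_true.1 hcoord (i, j) hij
      simp only [Bool.and_eq_true] at h
      set c := S.coord.getD (S.ps.idxOf (i, j)) ([], []) with hc
      obtain ⟨⟨-, h2⟩, h3⟩ := h
      have e := ext_supp (entryL (i, j))
        ((c.1.map fun a => entryL (S.free.getD a (0, 0))).sum + (c.2.map g).sum)
        (fun q hq => by
          have := List.all_eq_true.1 h3 q hq
          rw [decide_eq_true_eq] at this
          rw [LinearMap.add_apply, sum_map_linear, sum_map_linear, entryL_apply, this]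
          congr 2
          exact List.map_congr_left fun t _ => term q t) hM
      rw [entryL_apply, LinearMap.add_apply, sum_map_linear, sum_map_linear] at e
      rw [e, List.sum_eq_zero (l := c.2.map fun t => g t M) (fun x hx => ?_), add_zero]
      · rfl
      · obtain ⟨t, ht, rfl⟩ := List.mem_map.1 hx
        have ht' := List.all_eq_true.1 h2 t ht
        rw [decide_eq_true_eq] at ht'
        obtain ⟨hs, hm⟩ := hop hM hMI t.1 ht'.1
        exact low_fun_zero hG hX hs hm ht'.2
    · rw [if_neg hij]; exact hM i j hij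
  have hbit : ∀ {M : M7K}, Supp S.ps M → InQ qb X (1 + M) → ∀ r ∈ S.ps, Bit (M r.1 r.2) := by
    intro M hM hMI r hr
    rw [hcoord' hM hMI, candM, Matrix.of_apply, if_pos hr]
    refine Bit.sum fun x hx => ?_
    obtain ⟨a, ha, rfl⟩ := List.mem_map.1 hx
    have h := List.all_eq_true.1 hcoord r hr
    simp only [Bool.and_eq_true] at h
    have := List.all_eq_true.1 h.1.1 a ha
    rw [decide_eq_true_eq] at this
    exact hfb hM hMI a this
  -- reduce to one of sixteen candidates
  set v := fun i => N (S.free.getD i (0, 0)).1 (S.free.getD i (0, 0)).2 with hv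
  obtain ⟨n, hn, hnv⟩ : ∃ n < 16, ∀ i < 4, v i = bitsV n i := by
    have h16 : ∀ a b c d : Bool, ∃ n < 16,
        n.testBit 0 = a ∧ n.testBit 1 = b ∧ n.testBit 2 = c ∧ n.testBit 3 = d := by decide
    obtain ⟨n, hn, e0, e1, e2, e3⟩ := h16 (decide (v 0 = 1)) (decide (v 1 = 1)) (decide (v 2 = 1))
      (decide (v 3 = 1))
    refine ⟨n, hn, fun i hi => ?_⟩
    have hb := hfb hN hI i hi
    have hb' : Bit (v i) := hb
    interval_cases i <;> rcases hb' with h | h <;> simp [bitsV, e0, e1, e2, e3, h]
  have hNe : N = candM S (bitsV n) := by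
    rw [hcoord' hN hI]
    ext i j
    simp only [candM, Matrix.of_apply]
    by_cases hij : (i, j) ∈ S.ps
    · rw [if_pos hij, if_pos hij]
      congr 1
      refine List.map_congr_left fun a ha => ?_
      have h := List.all_eq_true.1 hcoord (i, j) hij
      simp only [Bool.and_eq_true] at h
      have := List.all_eq_true.1 h.1.1 a ha
      rw [decide_eq_true_eq] at this
      exact hnv a this
    · rw [if_neg hij, if_neg hij]
  have hc := List.all_eq_true.1 hcand n (List.mem_range.2 hn)
  rw [Bool.or_eq_true, ← hNe] at hc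
  rcases hc with hlow | hcert
  · exact low_cases hG hX (supp_of_check hlow) hI
  exfalso
  obtain ⟨c, -, hc⟩ := List.any_eq_true.1 hcert
  simp only [candCert, Bool.and_eq_true, Bool.or_eq_true] at hc
  obtain ⟨⟨⟨h1, h2⟩, h3⟩, h4⟩ := hc
  have hl : InQ qb X (lastM c) := by
    rcases h2 with h2 | h2
    · exact cert_last hG h1 (eq_of_same h2) hI
    · refine cert_last hG h1 (eq_of_same h2) ?_
      rw [← one_add_mul_one_add hsq hN (supp_of_check hnz)]
      exact hI.mul (nz_mem hG)
  obtain ⟨r, hr, hne⟩ := List.any_eq_true.1 h4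
  have := (isBit_iff _).2 (hbit (supp_of_check h3) (by rw [one_add_sub]; exact hl) r hr)
  rw [this] at hne
  exact Bool.noConfusion hne

/-- Without elementary transvections the kernel is small. -/
theorem smallKernel (hG : Gens X) (hX : NoElem X) : SmallKernel X := by
  intro N hN hI
  have h0 : ∀ i j : Fin 7,
      ¬ ((i.val < 3 ∧ 3 ≤ j.val) ∨ (i.val = 3 ∧ 4 ≤ j.val)) → N i j = 0 :=
    fun i j h => by_contra fun hne => h (hN i j hne)
  have hpos : ∀ i j c : Fin 7, (i.val < 3 ∧ 3 ≤ c.val) ∨ (i.val = 3 ∧ 4 ≤ c.val) →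
      (c.val < 3 ∧ 3 ≤ j.val) ∨ (c.val = 3 ∧ 4 ≤ j.val) →
      c = 3 ∧ (i, j) ∈ posLow := by decide +kernel
  have hsq : ∀ i j, (N * N) i j = if (i, j) ∈ posLow then N i 3 * N 3 j else 0 := by
    intro i j
    rw [Matrix.mul_apply]
    split_ifs with hm
    · refine Finset.sum_eq_single 3 (fun c _ hc => ?_) (by simp)
      by_contra hne
      exact hc (hpos i j c (hN i c (left_ne_zero_of_mul hne)) (hN c j (right_ne_zero_of_mul hne))).1
    · refine Finset.sum_eq_zero fun c _ => ?_
      by_contra hne
      exact hm (hpos i j c (hN i c (left_ne_zero_of_mul hne)) (hN c j (right_ne_zero_of_mul hne))).2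
  have hsupp : Supp posLow (N * N) := fun i j h => by rw [hsq, if_neg h]
  have hI2 : InQ qb X (1 + N * N) := by
    have := hI.mul hI
    rwa [show (1 + N) * (1 + N) = 1 + N * N by
      rw [Matrix.add_mul, Matrix.one_mul, Matrix.mul_add, Matrix.mul_one, add_assoc,
        ← add_assoc N N, CharTwo.add_self_eq_zero, zero_add]] at this
  have hz : N * N = 0 := by
    rcases low_cases hG hX hsupp hI2 with h | h
    · exact h
    exfalso
    have e : ∀ i j, (i, j) ∈ posLow → N i 3 * N 3 j = Nz i j := fun i j hm => by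
      rw [← h, hsq, if_pos hm]
    have h04 := e 0 4 (by decide)
    have h15 := e 1 5 (by decide)
    have h05 := e 0 5 (by decide)
    rw [show Nz 0 4 = (1 : K) from rfl] at h04
    rw [show Nz 1 5 = (1 : K) from rfl] at h15
    rw [show Nz 0 5 = (0 : K) from rfl] at h05
    rcases mul_eq_zero.1 h05 with h' | h'
    · rw [h', zero_mul] at h04; exact zero_ne_one h04
    · rw [h', mul_zero] at h15; exact zero_ne_one h15
  by_cases hα : ∀ i : Fin 7, i.val < 3 → N i 3 = 0
  · refine side_cases hG hX rightSide_ok (fun i j h => ?_) hI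
    by_contra hne
    rcases hN i j hne with ⟨hi, hj⟩ | ⟨hi, hj⟩
    · rcases eq_or_lt_of_le hj with hj' | hj'
      · obtain rfl : j = 3 := Fin.ext hj'.symm
        exact hne (hα i hi)
      · exact h ((by decide +kernel : ∀ i j : Fin 7, i.val < 3 → 3 < j.val → (i, j) ∈ posRight)
          i j hi hj')
    · exact h ((by decide +kernel : ∀ i j : Fin 7, i.val = 3 → 4 ≤ j.val → (i, j) ∈ posRight)
        i j hi hj)
  · push Not at hα
    obtain ⟨a, ha, hne⟩ := hα
    refine side_cases hG hX upperSide_ok (fun i j h => ?_) hI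
    by_contra hne'
    rcases hN i j hne' with ⟨hi, hj⟩ | ⟨hi, hj⟩
    · exact h ((by decide +kernel : ∀ i j : Fin 7, i.val < 3 → 3 ≤ j.val → (i, j) ∈ posUpper)
          i j hi hj)
    · obtain rfl : i = 3 := Fin.ext hi
      have hm : (a, j) ∈ posLow :=
        (by decide +kernel : ∀ a j : Fin 7, a.val < 3 → 4 ≤ j.val → (a, j) ∈ posLow) a j ha hj
      have := congrFun (congrFun hz a) j
      rw [hsq, if_pos hm, Matrix.zero_apply] at this
      exact mul_ne_zero hne hne' this

end Cfsg.Agent.CSixSevenEight
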