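import Cfsg.Agent.CSixSevenEight.Linear

/-!
# The checks for the kernel of the action on three coordinates
-/

set_option autoImplicit false
set_option maxRecDepth 8000

namespace Cfsg.Agent.CSixSevenEight

open Cfsg Cfsg.Geo Matrix

def posLow : List Pos := [(0, 4), (0, 5), (0, 6), (1, 4), (1, 5), (1, 6), (2, 4), (2, 5), (2, 6)]

def posUpper : List Pos :=
  [(0, 3), (0, 4), (0, 5), (0, 6), (1, 3), (1, 4), (1, 5), (1, 6), (2, 3), (2, 4), (2, 5), (2, 6)]

def posRight : List Pos :=
  [(0, 4), (0, 5), (0, 6), (1, 4), (1, 5), (1, 6), (2, 4), (2, 5), (2, 6), (3, 4), (3, 5), (3, 6)]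

/-- Functionals vanishing exactly on the scalar blocks, then the first diagonal entry. -/
def funs : List (List Pos) :=
  [[(0, 5)], [(0, 6)], [(1, 4)], [(1, 6)], [(2, 4)], [(2, 5)], [(0, 4), (1, 5)], [(0, 4), (2, 6)],
    [(0, 4)]]

/-- The functional with a given index. -/
def fnL (f : ℕ) : M7K →ₗ[K] K := ((funs.getD f []).map entryL).sum

/-- Its value on a matrix given by entries. -/
def fnFast (f : ℕ) (A : Fin 7 → Fin 7 → K) : K := ((funs.getD f []).map fun q => A q.1 q.2).sum

theorem fnL_apply (f : ℕ) (A : M7K) : fnL f A = fnFast f A := by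
  unfold fnL fnFast
  generalize funs.getD f [] = l
  induction l with
  | nil => rfl
  | cons a l ih => simp [ih]

/-- The conjugates sum to the functional times one transvection. -/
def lowFunOk (f : ℕ) (L : List (ℕ × ℕ)) : Bool :=
  L.all pairOk && opSupp L posLow posLow &&
    posLow.all fun q => allPos.all fun r => decide (opFast L q r.1 r.2 =
      if r = (0, 5) then fnFast f (fun i j => eM q i j) else 0)

theorem low_ops_ok : ((List.range 8).all fun f => lowFunOk f (Data.lowOps.getD f [])) = true := by
  decide +kernel

theorem nz_low : (allPos.all fun r => decide (r ∈ posLow) || decide (Nz r.1 r.2 = 0)) = true := by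
  decide +kernel

/-- The last matrix of a certificate. -/
def lastM (c : ℕ × List (ℕ × List ℕ)) : M7K :=
  dec ((c.2.map Prod.fst).getLastD c.1)

/-- A certificate is well formed. -/
def certOk (c : ℕ × List (ℕ × List ℕ)) : Bool :=
  okFrom (Data.baseEnv ++ [c.1]) c.2

/-- Element number `k` of the field. -/
def elK (k : ℕ) : K := Cfsg.Agent.SpecD4.F8.mk k

/-- Certificates for one elementary matrix. -/
def tvOk (k : ℕ) : Bool :=
  let c := Data.tvCerts.getD k (0, [])
  certOk c && same (dec c.1) (1 + elK (k + 1) • eM (0, 5)) &&
    same (mul7 (mul7 qb.Q (lastM c)) qb.Qi) (1 + Matrix.single (0 : Fin 7) 1 (1 : K))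

theorem tv_ok : ((List.range 7).all tvOk) = true := by decide +kernel

/-- Certificates for scalar blocks. -/
def scalarOk (k : ℕ) : Bool :=
  let c := Data.scalarCerts.getD k (0, [])
  certOk c && same (dec c.1) (1 + elK (k + 2) • Nz) &&
    (allPos.all fun r => decide (r ∈ posLow) || decide ((lastM c - 1) r.1 r.2 = 0)) &&
    (List.range 8).any fun f => decide (fnFast f (fun i j => (lastM c - 1) i j) ≠ 0)

theorem scalar_ok : ((List.range 6).all scalarOk) = true := by decide +kernel

/-- The data of one side. -/
structure Side where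
  ps : List Pos
  free : List Pos
  ops : List (List (ℕ × ℕ))
  freeC : List (List (ℕ × ℕ))
  coord : List (List ℕ × List (ℕ × ℕ))
  certs : List (ℕ × List (ℕ × List ℕ))

/-- A functional after an operator, on an elementary matrix. -/
def termFast (S : Side) (q : Pos) (t : ℕ × ℕ) : K :=
  fnFast t.2 (opFast (S.ops.getD t.1 []) q)

/-- The supported matrix with given free entries. -/
def candM (S : Side) (v : ℕ → K) : M7K := Matrix.of fun i j =>
  if (i, j) ∈ S.ps then (((S.coord.getD (S.ps.idxOf (i, j)) ([], [])).1.map v).sum) else 0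

/-- Free entries from bits. -/
def bitsV (n : ℕ) (i : ℕ) : K := if n.testBit i then 1 else 0

/-- An element is zero or one. -/
def isBit (x : K) : Bool := decide (x = 0) || decide (x = 1)

/-- A certificate against the candidate `N`, up to the parity involution. -/
def candCert (S : Side) (N : M7K) (c : ℕ × List (ℕ × List ℕ)) : Bool :=
  certOk c && (same (dec c.1) (1 + N) || same (dec c.1) (1 + (N + Nz))) &&
    (allPos.all fun r => decide (r ∈ S.ps) || decide ((lastM c - 1) r.1 r.2 = 0)) &&
    S.ps.any fun r => !isBit ((lastM c - 1) r.1 r.2)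

/-- The checks of one side. -/
def Side.ok (S : Side) : Bool :=
  sqZero S.ps && (allPos.all fun r => decide (r ∈ S.ps) || decide (Nz r.1 r.2 = 0)) &&
    (S.ops.all fun L => L.all pairOk && opSupp L S.ps S.ps &&
      allPos.all fun r => decide (r ∈ posLow) || S.ps.all fun q => decide (opFast L q r.1 r.2 = 0)) &&
    ((List.range 4).all fun i =>
      (S.freeC.getD i []).all (fun t => decide (t.1 < S.ops.length ∧ t.2 < 9)) &&
      S.ps.all fun q => decide (eM q (S.free.getD i (0, 0)).1 (S.free.getD i (0, 0)).2 =
        ((S.freeC.getD i []).map (termFast S q)).sum)) &&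
    (S.ps.all fun r =>
      let c := S.coord.getD (S.ps.idxOf r) ([], [])
      c.1.all (fun i => decide (i < 4)) &&
      c.2.all (fun t => decide (t.1 < S.ops.length ∧ t.2 < 8)) &&
      S.ps.all fun q => decide (eM q r.1 r.2 =
        (c.1.map fun i => eM q (S.free.getD i (0, 0)).1 (S.free.getD i (0, 0)).2).sum +
          (c.2.map (termFast S q)).sum)) &&
    ((List.range 16).all fun n =>
      (allPos.all fun r => decide (r ∈ posLow) || decide (candM S (bitsV n) r.1 r.2 = 0)) ||
        S.certs.any (candCert S (candM S (bitsV n))))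

def upperSide : Side where
  ps := posUpper
  free := [(0, 4), (0, 3), (1, 3), (2, 3)]
  ops := Data.upperOps
  freeC := Data.upperFree
  coord := Data.upperCoord
  certs := Data.upperCerts

def rightSide : Side where
  ps := posRight
  free := [(0, 4), (3, 4), (3, 5), (3, 6)]
  ops := Data.rightOps
  freeC := Data.rightFree
  coord := Data.rightCoord
  certs := Data.rightCerts

theorem upperSide_ok : upperSide.ok = true := by decide +kernel

theorem rightSide_ok : rightSide.ok = true := by decide +kernel

end Cfsg.Agent.CSixSevenEight
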